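import Groth.Agent.AVLib.Isog
import Groth.Agent.AVLib.IdSub
import Groth.Agent.GrpSchLib.ZeroTangent
import Groth.Agent.SmoothQFLib.Basic
import Groth.Agent.CommGrpAbLib.Basic
import Groth.Agent.ASp.GeomRedEt

/-!
# Tangent vectors at the unit of a group scheme and étale homomorphisms of elliptic curves
-/

set_option autoImplicit false
set_option backward.isDefEq.respectTransparency false
set_option linter.style.haveILetI false
set_option synthInstance.maxHeartbeats 400000
set_option maxHeartbeats 1000000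

universe u

open CategoryTheory CategoryTheory.Limits MonoidalCategory CartesianMonoidalCategory MonObj AlgebraicGeometry
open scoped DualNumber
open Groth.Agent.GrpSchLib (spO spMap)

noncomputable section

namespace Groth.Agent.EllTangLib

variable {K : Type u} [Field K]

section Chart

variable {G : Over (Spec (CommRingCat.of K))} [GrpObj G]

/-- An affine chart around the unit. -/
theorem exists_chart [LocallyOfFiniteType G.hom] :
    ∃ (A : Type u) (_ : CommRing A) (_ : Algebra K A) (jA : spO K A ⟶ G) (_ : IsOpenImmersion jA.left)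
      (e : A →ₐ[K] K) (P : PrimeSpectrum A), IsNoetherianRing A ∧ spMap e ≫ jA = (1 : spO K K ⟶ G) ∧
        P.asIdeal = RingHom.ker e ∧ jA.left P = GrpSchLib.unitPt G := by
  let x₀ : G.left := GrpSchLib.unitPt G
  obtain ⟨U, hU, hx, -⟩ := G.left.isBasis_affineOpens.exists_subset_of_mem_open (Set.mem_univ x₀) isOpen_univ
  obtain ⟨U, hUaff, rfl⟩ := hU
  have hUaff : IsAffineOpen U := hUaff
  let A : Type u := Γ(G.left, U)
  let φ : CommRingCat.of K ⟶ Γ(G.left, U) := Spec.preimage (hUaff.fromSpec ≫ G.hom)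
  letI : Algebra K A := φ.hom.toAlgebra
  have hw : hUaff.fromSpec ≫ G.hom = Spec.map (CommRingCat.ofHom (algebraMap K A)) := by
    rw [← Spec.map_preimage (hUaff.fromSpec ≫ G.hom)]
    rfl
  let jA : spO K A ⟶ G := Over.homMk hUaff.fromSpec hw
  haveI : IsOpenImmersion jA.left := inferInstanceAs (IsOpenImmersion hUaff.fromSpec)
  let u : spO K K ⟶ G := 1
  have hupt : ∀ p, u.left p = x₀ := fun p => GrpSchLib.one_apply (G := G) (spO K K) p
  have hru : Set.range u.left ⊆ Set.range jA.left := by
    rintro _ ⟨p, rfl⟩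
    show _ ∈ Set.range hUaff.fromSpec
    rw [hUaff.range_fromSpec, hupt]
    exact hx
  obtain ⟨e, he'⟩ := GrpSchLib.exists_spMap (Over.homMk (IsOpenImmersion.lift jA.left u.left hru) (by
    rw [show (spO K A).hom = jA.left ≫ G.hom from (Over.w jA).symm, IsOpenImmersion.lift_fac_assoc]
    exact Over.w u) : spO K K ⟶ spO K A)
  have he : spMap e ≫ jA = 1 := by
    rw [he']; ext1; exact IsOpenImmersion.lift_fac _ _ _
  haveI : LocallyOfFiniteType (hUaff.fromSpec ≫ G.hom) :=
    MorphismProperty.comp_mem @LocallyOfFiniteType _ _ inferInstance inferInstance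
  haveI : Algebra.FiniteType K A := by
    have h : LocallyOfFiniteType (Spec.map (CommRingCat.ofHom (algebraMap K A))) := hw ▸ inferInstance
    exact RingHom.finiteType_algebraMap.mp ((HasRingHomProperty.Spec_iff (P := @LocallyOfFiniteType)).mp h)
  refine ⟨A, inferInstance, inferInstance, jA, inferInstance, e, ⟨RingHom.ker e, RingHom.ker_isPrime e⟩,
    Algebra.FiniteType.isNoetherianRing K A, he, rfl, ?_⟩
  have hc := congrArg (fun f : spO K K ⟶ G => f.left (⊥ : PrimeSpectrum K)) he
  simp only [Over.comp_left, Scheme.Hom.comp_apply] at hc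
  show _ = x₀
  rw [← hupt (⊥ : PrimeSpectrum K)]
  refine Eq.trans ?_ hc
  refine congrArg jA.left ?_
  refine PrimeSpectrum.ext ?_
  show RingHom.ker e = Ideal.comap e.toRingHom ⊥
  rw [← RingHom.ker_eq_comap_bot]
  rfl

variable {A : Type u} [CommRing A] [Algebra K A]

/-- A point derivation gives a tangent vector. -/
def derMap (e : A →ₐ[K] K) (v : A →ₗ[K] K) (hv1 : v 1 = 0) (hv : ∀ x y, v (x * y) = e x * v y + e y * v x) :
    A →ₐ[K] K[ε] where
  toFun a := TrivSqZeroExt.inl (e a) + TrivSqZeroExt.inr (v a)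
  map_one' := by ext <;> simp [hv1]
  map_zero' := by ext <;> simp
  map_add' a b := by ext <;> simp [map_add]
  map_mul' a b := by ext <;> simp [hv, mul_comm]
  commutes' c := by
    have : v (algebraMap K A c) = 0 := by rw [Algebra.algebraMap_eq_smul_one, map_smul, hv1, smul_zero]
    ext <;> simp [this, TrivSqZeroExt.algebraMap_eq_inl']

variable (jA : spO K A ⟶ G) [IsOpenImmersion jA.left] (e : A →ₐ[K] K)
  (he : spMap e ≫ jA = (1 : spO K K ⟶ G))

include he in
/-- If all tangent vectors at the unit are trivial then the maximal ideal of the unit is idempotent. -/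
theorem le_sq_of_forall_tangent
    (h : ∀ T : spO K K[ε] ⟶ G, spMap (TrivSqZeroExt.fstHom K K K) ≫ T = 1 → T = 1) :
    RingHom.ker e ≤ RingHom.ker e ^ 2 := by
  intro a ha
  by_contra ha2
  let 𝔪 : Ideal A := RingHom.ker e
  let W : Submodule K A := Submodule.span K {1} ⊔ (𝔪 ^ 2).restrictScalars K
  have haW : a ∉ W := by
    intro h
    obtain ⟨c, hc, b, hb, hab⟩ := Submodule.mem_sup.1 h
    obtain ⟨c, rfl⟩ := Submodule.mem_span_singleton.1 hc
    have hb' : b ∈ 𝔪 := Ideal.pow_le_self two_ne_zero hb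
    have hc0 : c = 0 := by
      have := congrArg e hab
      rw [map_add, map_smul, map_one, (RingHom.mem_ker).1 hb', add_zero, (RingHom.mem_ker).1 ha] at this
      simpa using this
    rw [hc0, zero_smul, zero_add] at hab
    exact ha2 (hab ▸ hb)
  obtain ⟨v, hva, hvW⟩ := Submodule.exists_dual_map_eq_bot_of_notMem haW inferInstance
  have hv0 : ∀ w ∈ W, v w = 0 := fun w hw => by
    have : v w ∈ W.map v := Submodule.mem_map_of_mem hw
    rwa [hvW, Submodule.mem_bot] at this
  have hv1 : v 1 = 0 := hv0 _ (Submodule.mem_sup_left (Submodule.mem_span_singleton_self _))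
  have hv : ∀ x y, v (x * y) = e x * v y + e y * v x := fun x y => by
    have hmem : (x - algebraMap K A (e x)) * (y - algebraMap K A (e y)) ∈ 𝔪 ^ 2 := by
      rw [pow_two]
      refine Ideal.mul_mem_mul ?_ ?_ <;> simp [𝔪, RingHom.mem_ker]
    have h0 := hv0 _ (Submodule.mem_sup_right
      (show (x - algebraMap K A (e x)) * (y - algebraMap K A (e y)) ∈ (𝔪 ^ 2).restrictScalars K from hmem))
    have hexp : (x - algebraMap K A (e x)) * (y - algebraMap K A (e y)) =
        x * y - e x • y - e y • x + (e x * e y) • (1 : A) := by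
      simp only [Algebra.smul_def, map_mul]; ring
    rw [hexp] at h0
    simp only [map_add, map_sub, map_smul, hv1, smul_zero, add_zero, smul_eq_mul] at h0
    linear_combination h0
  have hT : spMap (TrivSqZeroExt.fstHom K K K) ≫ spMap (derMap e v hv1 hv) ≫ jA = 1 := by
    rw [← Category.assoc, ← GrpSchLib.spMap_comp,
      show (TrivSqZeroExt.fstHom K K K).comp (derMap e v hv1 hv) = e from AlgHom.ext fun a => by simp [derMap], he]
  have h1 := h _ hT
  have h2 : spMap ((Algebra.ofId K K[ε]).comp e) ≫ jA = 1 := by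
    rw [GrpSchLib.spMap_comp, Category.assoc, he, MonObj.comp_one]
  haveI : Mono jA := (Over.forget _).mono_of_mono_map (show Mono jA.left from inferInstance)
  have h3 := GrpSchLib.spMap_injective ((cancel_mono jA).1 (h1.trans h2.symm))
  have := congrArg TrivSqZeroExt.snd (AlgHom.congr_fun h3 a)
  simp [derMap, Algebra.ofId_apply, TrivSqZeroExt.algebraMap_eq_inl] at this
  exact hva this

include he in
/-- If the maximal ideal of the unit is principal then the tangent vectors form a line. -/
theorem exists_eq_scale (P : PrimeSpectrum A) (hP : P.asIdeal = RingHom.ker e)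
    (hprin : (IsLocalRing.maximalIdeal (Localization.AtPrime P.asIdeal)).IsPrincipal)
    (T₁ T : spO K K[ε] ⟶ G) (h₁ : spMap (TrivSqZeroExt.fstHom K K K) ≫ T₁ = 1) (hne : T₁ ≠ 1)
    (hT : spMap (TrivSqZeroExt.fstHom K K K) ≫ T = 1) :
    ∃ c : K, T = spMap (AVLib.sqMap K (c • LinearMap.id : K →ₗ[K] K)) ≫ T₁ := by
  obtain ⟨τ, hτ⟩ := hprin
  obtain ⟨⟨x, s₀⟩, hx⟩ := IsLocalization.surj P.asIdeal.primeCompl τ
  simp only at hx
  have hgen : IsLocalRing.maximalIdeal (Localization.AtPrime P.asIdeal) =
      Ideal.span {algebraMap A (Localization.AtPrime P.asIdeal) x} := by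
    rw [hτ, ← hx]
    exact (Ideal.span_singleton_mul_right_unit
      (IsLocalization.map_units (Localization.AtPrime P.asIdeal) s₀) τ).symm
  have hem : ∀ a, a ∈ P.asIdeal ↔ e a = 0 := fun a => by rw [hP, RingHom.mem_ker]
  obtain ⟨g₁, hg₁, hf₁⟩ := AVLib.exists_alg_lift jA e he T₁ h₁
  obtain ⟨g, hg, hf⟩ := AVLib.exists_alg_lift jA e he T hT
  let v : (A →ₐ[K] K[ε]) → A → K := fun g a => TrivSqZeroExt.snd (g a)
  have hfst : ∀ h : A →ₐ[K] K[ε], (TrivSqZeroExt.fstHom K K K).comp h = (Algebra.ofId K K).comp e →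
      ∀ a, TrivSqZeroExt.fst (h a) = e a := fun h hh a => by
    simpa using AlgHom.congr_fun hh a
  have hmul : ∀ h : A →ₐ[K] K[ε], (TrivSqZeroExt.fstHom K K K).comp h = (Algebra.ofId K K).comp e →
      ∀ a b, v h (a * b) = e a * v h b + e b * v h a := fun h hh a b => by
    simp [v, TrivSqZeroExt.snd_mul, hfst h hh, mul_comm]
  have hkey : ∀ a ∈ P.asIdeal, ∃ l : K, ∀ h : A →ₐ[K] K[ε],
      (TrivSqZeroExt.fstHom K K K).comp h = (Algebra.ofId K K).comp e → v h a = l * v h x := by
    intro a ha
    have h1 : algebraMap A (Localization.AtPrime P.asIdeal) a ∈ IsLocalRing.maximalIdeal _ :=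
      (IsLocalization.AtPrime.to_map_mem_maximal_iff (Localization.AtPrime P.asIdeal) P.asIdeal a).2 ha
    rw [hgen, Ideal.mem_span_singleton] at h1
    obtain ⟨q, hq⟩ := h1
    obtain ⟨⟨r, s⟩, hrs⟩ := IsLocalization.surj P.asIdeal.primeCompl q
    simp only at hrs
    have h2 : algebraMap A (Localization.AtPrime P.asIdeal) (s * a) = algebraMap A _ (x * r) := by
      rw [map_mul, map_mul, hq, ← hrs]; ring
    obtain ⟨u, hu⟩ := (IsLocalization.eq_iff_exists P.asIdeal.primeCompl _).1 h2
    have hus : e (u * s) ≠ 0 := fun h0 => (u * s).2 ((hem _).2 h0)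
    have hea : e a = 0 := (hem a).1 ha
    have hxP : x ∈ P.asIdeal := (IsLocalization.AtPrime.to_map_mem_maximal_iff (Localization.AtPrime P.asIdeal) P.asIdeal x).1
      (hgen ▸ Ideal.mem_span_singleton_self _)
    refine ⟨e (u * r) / e (u * s), fun h hh => ?_⟩
    have h3 : v h ((u * s : A) * a) = v h ((u * r : A) * x) := by
      congr 1
      linear_combination hu
    rw [hmul h hh ((u : A) * s) a, hmul h hh ((u : A) * r) x, hea, (hem x).1 hxP, zero_mul, zero_mul, add_zero, add_zero] at h3
    field_simp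
    linear_combination h3
  have hone : ∀ h : A →ₐ[K] K[ε], ∀ c : K, v h (algebraMap K A c) = 0 := fun h c => by
    simp [v, AlgHom.commutes, TrivSqZeroExt.algebraMap_eq_inl']
  have hall : ∀ a, ∃ l : K, ∀ h : A →ₐ[K] K[ε],
      (TrivSqZeroExt.fstHom K K K).comp h = (Algebra.ofId K K).comp e → v h a = l * v h x := by
    intro a
    obtain ⟨l, hl⟩ := hkey (a - algebraMap K A (e a)) ((hem _).2 (by simp))
    refine ⟨l, fun h hh => ?_⟩
    rw [← hl h hh]
    simp [v, AlgHom.commutes, TrivSqZeroExt.algebraMap_eq_inl']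
  have hx1 : v g₁ x ≠ 0 := by
    intro h0
    apply hne
    rw [← hg₁, show g₁ = (Algebra.ofId K K[ε]).comp e from AlgHom.ext fun a => TrivSqZeroExt.ext
      (by simp [hfst g₁ hf₁, Algebra.ofId_apply, TrivSqZeroExt.algebraMap_eq_inl'])
      (by
        obtain ⟨l, hl⟩ := hall a
        show v g₁ a = _
        rw [hl g₁ hf₁, h0, mul_zero]
        simp [Algebra.ofId_apply, TrivSqZeroExt.algebraMap_eq_inl']),
      GrpSchLib.spMap_comp, Category.assoc, he, MonObj.comp_one]
  refine ⟨v g x / v g₁ x, ?_⟩
  rw [← hg, ← hg₁, ← Category.assoc, ← GrpSchLib.spMap_comp]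
  congr 2
  refine AlgHom.ext fun a => TrivSqZeroExt.ext ?_ ?_
  · simp [hfst g hf, hfst g₁ hf₁]
  · obtain ⟨l, hl⟩ := hall a
    show v g a = _
    rw [hl g hf]
    simp only [AlgHom.comp_apply, AlgHom.restrictScalars_apply]
    simp
    rw [show TrivSqZeroExt.snd (g₁ a) = l * v g₁ x from hl g₁ hf₁]
    field_simp

end Chart

/-- A finite reduced group over an algebraically closed field is étale. -/
theorem etale_of_finite_reduced [IsAlgClosed K] (N : Over (Spec (CommRingCat.of K))) [GrpObj N] [IsFinite N.hom]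
    [IsReduced N.left] : Etale N.hom := by
  haveI := AVLib.geometricallyReduced_of_perfect N.hom
  haveI : Smooth N.hom := by
    haveI : Flat N.hom := inferInstance
    haveI : LocallyOfFinitePresentation N.hom := inferInstance
    exact S7795.result N
  haveI : IsAffine N.left := isAffine_of_isAffineHom N.hom
  have h1 := (HasRingHomProperty.iff_of_isAffine (P := @Smooth)).1 ‹Smooth N.hom›
  have h2 := N.hom.finite_appTop
  apply (HasRingHomProperty.iff_of_isAffine (P := @Etale)).2
  algebraize [N.hom.appTop.hom]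
  exact (RingHom.etale_algebraMap).2 (SmoothQFLib.etale_of_smooth_quasiFinite _ _)

section Elliptic

variable [IsAlgClosed K] {E₁ E₂ : Over (Spec (CommRingCat.of K))} [GrpObj E₁] [IsProper E₁.hom] [Smooth E₁.hom]
  [IsIntegral E₁.left] [GrpObj E₂] [IsProper E₂.hom] [Smooth E₂.hom] [IsIntegral E₂.left]

omit [IsAlgClosed K] in
theorem geometricallyIntegral (E : Over (Spec (CommRingCat.of K))) [GrpObj E] [Smooth E.hom] [IsIntegral E.left] :
    GeometricallyIntegral E.hom := by
  haveI : GeometricallyConnected E.hom := MonoFibre.geometricallyConnected_of_section E.hom η[E].left (Over.w η[E])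
  exact AVLib.geometricallyIntegral_of_smooth E

/-- A homomorphism without tangent vectors in the kernel is étale. -/
theorem etale_of_forall_tangent (hdim : topologicalKrullDim E₁.left = topologicalKrullDim E₂.left)
    (ψ : E₁ ⟶ E₂) [IsMonHom ψ]
    (h : ∀ T : spO K K[ε] ⟶ E₁, spMap (TrivSqZeroExt.fstHom K K K) ≫ T = 1 → T ≫ ψ = 1 → T = 1) :
    IsFinite ψ.left ∧ Surjective ψ.left ∧ Etale ψ.left := by
  haveI := geometricallyIntegral (K := K) E₁
  haveI := geometricallyIntegral (K := K) E₂
  haveI := AVLib.isProper_hom ψ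
  obtain ⟨hN, hmon⟩ := GrpQuotLib.exists_grpObj_kernel ψ
  letI : GrpObj (pullback ψ η[E₂]) := hN
  haveI := hmon
  haveI : IsClosedImmersion η[E₂].left := GrpSchLib.isClosedImmersion_unit
  let N := pullback ψ η[E₂]
  have hsq := GrpQuotLib.isPullback_left (IsPullback.of_hasPullback ψ η[E₂])
  haveI : IsClosedImmersion (pullback.fst ψ η[E₂]).left := MorphismProperty.of_isPullback hsq.flip ‹_›
  haveI : IsProper N.hom := by rw [← Over.w (pullback.fst ψ η[E₂])]; infer_instance
  haveI : Mono (pullback.fst ψ η[E₂]) := Over.mono_of_mono_left _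
  -- the kernel has no tangent vectors
  have hNT : ∀ T : spO K K[ε] ⟶ N, spMap (TrivSqZeroExt.fstHom K K K) ≫ T = 1 → T = 1 := by
    intro T hT
    rw [← cancel_mono (pullback.fst ψ η[E₂]), MonObj.one_comp]
    refine h _ ?_ ?_
    · rw [← Category.assoc, hT, MonObj.one_comp]
    · rw [Category.assoc, pullback.condition, Hom.one_def, ← Category.assoc]
      exact congrArg (· ≫ η[E₂]) (toUnit_unique _ _)
  obtain ⟨A, _, _, jA, _, e, P, hA, he, hP, hPx⟩ := exists_chart (G := N)
  have hle := le_sq_of_forall_tangent jA e he hNT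
  have hcot : Subsingleton (IsLocalRing.CotangentSpace (N.left.presheaf.stalk (GrpSchLib.unitPt N))) := by
    haveI : IsLocallyNoetherian N.left := LocallyOfFiniteType.isLocallyNoetherian N.hom
    rw [IsLocalRing.subsingleton_cotangentSpace_iff, ← hPx]
    have hfield : IsField (Localization.AtPrime P.asIdeal) := by
      rw [← IsLocalRing.subsingleton_cotangentSpace_iff]
      refine (Ideal.cotangent_subsingleton_iff _).2 ?_
      show _ * _ = _
      rw [← Localization.AtPrime.map_eq_maximalIdeal, ← Ideal.map_mul, ← pow_two]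
      exact congrArg (Ideal.map _) (le_antisymm (Ideal.pow_le_self two_ne_zero) (by rw [hP]; exact hle))
    exact (((asIso (jA.left.stalkMap P)).commRingCatIsoToRingEquiv).trans
      (StructureSheaf.stalkIso (R := A) P).toRingEquiv.symm).toMulEquiv.isField hfield
  obtain ⟨hfin, hdisc, hst⟩ := GrpSchLib.discrete_of_cotangent_zero N hcot
  haveI : ∀ g, _root_.IsReduced (N.left.presheaf.stalk g) := fun g => by
    letI := (IsLocalRing.isField_iff_maximalIdeal_eq.2 (hst g).1).toField
    infer_instance
  haveI : IsReduced N.left := isReduced_of_isReduced_stalk _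
  haveI : LocallyQuasiFinite N.hom :=
    LocallyQuasiFinite.of_finite_preimage_singleton _ fun _ => Set.toFinite _
  haveI : IsFinite N.hom := IsFinite.of_isProper_of_locallyQuasiFinite N.hom
  have het := etale_of_finite_reduced N
  haveI : LocallyQuasiFinite ψ.left := GrpHomLib.of_kernel ψ @LocallyQuasiFinite (fun j hj => inferInstance)
    ((GrpHomLib.kernel_hom_iff ψ @LocallyQuasiFinite).1 inferInstance)
  haveI : IsFinite ψ.left := IsFinite.of_isProper_of_locallyQuasiFinite ψ.left
  haveI := AVLib.surjective_of_isFinite ψ hdim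
  obtain ⟨-, hflat⟩ := AVLib.isFinite_flat_of_surjective ψ hdim
  haveI := hflat
  refine ⟨inferInstance, inferInstance, MonoFibre.KernelFibre.of_kernel ψ (pullback.fst ψ η[E₂]) @Etale ?_ het⟩
  show IsPullback (pullback.fst ψ η[E₂]) (toUnit _) ψ η[E₂]
  rw [toUnit_unique (toUnit _) (pullback.snd ψ η[E₂])]
  exact IsPullback.of_hasPullback ψ η[E₂]

/-- Sum of a separable isogeny and an inseparable homomorphism. -/
theorem etale_mul_of_etale_of_not_etale (hE₁ : topologicalKrullDim E₁.left = 1)
    (hE₂ : topologicalKrullDim E₂.left = 1) (φ φ' : E₁ ⟶ E₂) [IsMonHom φ] [IsMonHom φ'] [Etale φ.left]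
    (hφ' : ¬ Etale φ'.left) :
    IsFinite (φ * φ').left ∧ Surjective (φ * φ').left ∧ Etale (φ * φ').left := by
  haveI := geometricallyIntegral (K := K) E₁
  haveI := geometricallyIntegral (K := K) E₂
  haveI : IsCommMonObj E₂ := isCommMonObj_of_isProper_of_geometricallyIntegral E₂
  have hdim : topologicalKrullDim E₁.left = topologicalKrullDim E₂.left := hE₁.trans hE₂.symm
  -- a tangent vector killed by the inseparable homomorphism
  obtain ⟨T₁, h₁, h₁φ, hne⟩ : ∃ T₁ : spO K K[ε] ⟶ E₁,
      spMap (TrivSqZeroExt.fstHom K K K) ≫ T₁ = 1 ∧ T₁ ≫ φ' = 1 ∧ T₁ ≠ 1 := by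
    by_contra hcon
    push Not at hcon
    exact hφ' (etale_of_forall_tangent hdim φ' fun T h1 h2 => hcon T h1 h2).2.2
  obtain ⟨A, _, _, jA, _, e, P, hA, he, hP, hPx⟩ := exists_chart (G := E₁)
  have hprin : (IsLocalRing.maximalIdeal (Localization.AtPrime P.asIdeal)).IsPrincipal := by
    haveI : IsLocallyNoetherian E₁.left := LocallyOfFiniteType.isLocallyNoetherian E₁.hom
    let R := E₁.left.presheaf.stalk (jA.left P)
    haveI hreg : IsRegularLocalRing R := ASp.isRegularLocalRing_stalk_of_smooth_field E₁.hom _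
    have hdimR : ringKrullDim R = 1 := by
      show ringKrullDim (E₁.left.presheaf.stalk (jA.left P)) = 1
      rw [hPx, GrpSchLib.ringKrullDim_stalk_eq_topologicalKrullDim E₁ _ GrpSchLib.isClosed_unitPt, hE₁]
    let E : R ≃+* Localization.AtPrime P.asIdeal := ((asIso (jA.left.stalkMap P)).commRingCatIsoToRingEquiv).trans
      (StructureSheaf.stalkIso (R := A) P).toRingEquiv.symm
    haveI : IsRegularLocalRing (Localization.AtPrime P.asIdeal) := IsRegularLocalRing.of_ringEquiv E
    have h1 : ((IsLocalRing.maximalIdeal (Localization.AtPrime P.asIdeal)).spanFinrank : WithBot ℕ∞) = 1 := by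
      rw [IsRegularLocalRing.spanFinrank_maximalIdeal, ← ringKrullDim_eq_of_ringEquiv E, hdimR]
    exact ((Submodule.spanFinrank_eq_one_iff _).1 (by exact_mod_cast h1)).1
  haveI : IsMonHom (φ * φ') := CommGrpAbLib.isMonHom_mul φ φ'
  refine etale_of_forall_tangent hdim (φ * φ') fun T hT hTk => ?_
  obtain ⟨c, rfl⟩ := exists_eq_scale jA e he P hP hprin T₁ T h₁ hne hT
  rw [MonObj.comp_mul, Category.assoc _ T₁ φ', h₁φ, MonObj.comp_one, _root_.mul_one] at hTk
  -- `φ` is unramified
  let T := spMap (AVLib.sqMap K (c • LinearMap.id : K →ₗ[K] K)) ≫ T₁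
  have hTφ : T ≫ φ = (1 : spO K K[ε] ⟶ E₁) ≫ φ := by rw [MonObj.one_comp]; exact hTk
  haveI : FormallyUnramified φ.left := inferInstance
  let y := pullback.lift (f := φ.left) (g := φ.left) T.left (1 : spO K K[ε] ⟶ E₁).left
    (congrArg CommaMorphism.left hTφ)
  have hy : (spMap (TrivSqZeroExt.fstHom K K K)).left ≫ y =
      (1 : spO K K ⟶ E₁).left ≫ pullback.diagonal φ.left := by
    refine pullback.hom_ext ?_ ?_ <;> simp only [y, Category.assoc, pullback.lift_fst, pullback.lift_snd,
      pullback.diagonal_fst, pullback.diagonal_snd, Category.comp_id, ← Over.comp_left]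
    · rw [hT]
    · rw [MonObj.comp_one]
  have hsurj : Function.Surjective (spMap (TrivSqZeroExt.fstHom K K K)).left := by
    intro q
    have hs : Function.Surjective (TrivSqZeroExt.fstHom K K K).toRingHom := fun a => ⟨TrivSqZeroExt.inl a, by simp⟩
    have hq : q ∈ Set.range (PrimeSpectrum.comap (TrivSqZeroExt.fstHom K K K).toRingHom) := by
      rw [range_comap_of_surjective _ _ hs]
      intro z hz
      have hz' : TrivSqZeroExt.fst z = 0 := hz
      refine (q.isPrime.mem_or_mem (?_ : z * z ∈ q.asIdeal)).elim id id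
      rw [show z * z = 0 by ext <;> simp [hz']]
      exact zero_mem _
    exact hq
  have hr : Set.range y ⊆ Set.range (pullback.diagonal φ.left) := by
    rintro _ ⟨p, rfl⟩
    obtain ⟨q, rfl⟩ := hsurj p
    exact ⟨(1 : spO K K ⟶ E₁).left q, by rw [← Scheme.Hom.comp_apply, ← hy, Scheme.Hom.comp_apply]⟩
  let z := IsOpenImmersion.lift (pullback.diagonal φ.left) y hr
  have hz : z ≫ pullback.diagonal φ.left = y := IsOpenImmersion.lift_fac _ _ _
  ext1
  have e1 : z = T.left := by
    simpa [y] using congrArg (fun f => f ≫ pullback.fst φ.left φ.left) hz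
  have e2 : z = (1 : spO K K[ε] ⟶ E₁).left := by
    simpa [y] using congrArg (fun f => f ≫ pullback.snd φ.left φ.left) hz
  exact e1.symm.trans e2

end Elliptic

end Groth.Agent.EllTangLib
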